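import Groth.Agent.Lib.NormSep24.Flasque
import Groth.Agent.Lib.EtColim.Torsion

/-!
# Vanishing over a union of opens
-/

set_option autoImplicit false
set_option linter.style.haveILetI false
set_option backward.isDefEq.respectTransparency.types false
set_option maxHeartbeats 2000000

universe u

open CategoryTheory CategoryTheory.Limits AlgebraicGeometry Opposite CategoryTheory.Abelian

namespace Groth.Agent.InjModAcyc24

open Groth.Agent.NormSep24 Groth.Agent.EtSite

variable {Z : Scheme.{u}} {U₀ : Z.Etale}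

/-- An open as an étale object. -/
noncomputable abbrev obj (O : U₀.left.Opens) : Z.Etale := sub U₀ O

/-- Inclusion of opens. -/
noncomputable abbrev rs {O O' : U₀.left.Opens} (h : O ≤ O') : obj O ⟶ obj O' := subLE (U := U₀) h

instance (O : U₀.left.Opens) : Etale (obj O).hom := (obj O).prop

theorem hom_ext_obj {O : U₀.left.Opens} {W : Z.Etale} {a b : W ⟶ obj O}
    (h : a ≫ subHom U₀ O = b ≫ subHom U₀ O) : a = b :=
  haveI := mono_subHom (U := U₀) O
  (cancel_mono (subHom U₀ O)).1 h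

theorem mono_rs {O O' : U₀.left.Opens} (h : O ≤ O') : Mono (rs h) :=
  ⟨fun a b e => hom_ext_obj (by
    have := congrArg (· ≫ subHom U₀ O') e
    rwa [Category.assoc, Category.assoc, subLE_fac] at this)⟩

theorem rs_comp {O O' O'' : U₀.left.Opens} (h : O ≤ O') (h' : O' ≤ O'') : rs h ≫ rs h' = rs (h.trans h') :=
  hom_ext_obj (by rw [Category.assoc, subLE_fac, subLE_fac, subLE_fac])

/-- Vanishing of cohomology over an open. -/
def Van (G : EtCoh.Ab Z) (O : U₀.left.Opens) (q : ℕ) : Prop :=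
  Subsingleton (Ext (EtStalk.zExt (obj O).hom) G q)

/-- Sections over the intersection are differences. -/
def Split (G : EtCoh.Ab Z) (U V : U₀.left.Opens) : Prop :=
  ∀ c : G.obj.obj (op (obj (U ⊓ V))), ∃ (a : G.obj.obj (op (obj U))) (b : G.obj.obj (op (obj V))),
    c = G.obj.map (rs (inf_le_left : U ⊓ V ≤ U)).op a - G.obj.map (rs (inf_le_right : U ⊓ V ≤ V)).op b

theorem glue_two (G : EtCoh.Ab Z) {U V : U₀.left.Opens} (a : G.obj.obj (op (obj U))) (b : G.obj.obj (op (obj V)))
    (h : G.obj.map (rs (inf_le_left : U ⊓ V ≤ U)).op a = G.obj.map (rs (inf_le_right : U ⊓ V ≤ V)).op b) :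
    ∃ t : G.obj.obj (op (obj (U ⊔ V))), G.obj.map (rs (le_sup_left : U ≤ U ⊔ V)).op t = a ∧
      G.obj.map (rs (le_sup_right : V ≤ U ⊔ V)).op t = b := by
  let O : Bool → U₀.left.Opens := fun i => bif i then U else V
  let f : ∀ i, obj (O i) ⟶ obj (U ⊔ V) := fun i => match i with
    | true => rs le_sup_left
    | false => rs le_sup_right
  let s : ∀ i, G.obj.obj (op (obj (O i))) := fun i => match i with
    | true => a
    | false => b
  have key : ∀ {W : Z.Etale} (x : W ⟶ obj U) (y : W ⟶ obj V),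
      x ≫ rs (le_sup_left : U ≤ U ⊔ V) = y ≫ rs (le_sup_right : V ≤ U ⊔ V) →
      G.obj.map x.op a = G.obj.map y.op b := by
    intro W x y e
    have e'' : x ≫ subHom U₀ U = y ≫ subHom U₀ V := by
      rw [← subLE_fac (U := U₀) (le_sup_left : U ≤ U ⊔ V), ← subLE_fac (U := U₀) (le_sup_right : V ≤ U ⊔ V), ← Category.assoc, e,
        Category.assoc]
    have hr : Set.range (x ≫ subHom U₀ U).left ⊆ ((U ⊓ V : U₀.left.Opens) : Set U₀.left) :=
      Set.subset_inter (range_comp_subHom U x) (e'' ▸ range_comp_subHom V y)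
    let l := toSub (x ≫ subHom U₀ U) (U ⊓ V) hr
    have h1 : l ≫ rs inf_le_left = x := hom_ext_obj (by rw [Category.assoc, subLE_fac, toSub_fac])
    have h2 : l ≫ rs inf_le_right = y := hom_ext_obj (by rw [Category.assoc, subLE_fac, toSub_fac, e''])
    rw [← h1, ← h2, ← res_res, ← res_res, h]
  obtain ⟨t, ht, -⟩ := glue G (fun i => obj (O i)) f (fun x => by
      rcases x.2 with hx | hx
      · exact ⟨true, ⟨x.1, hx⟩, Subtype.ext congr(($(subLE_fac (U := U₀) (le_sup_left : U ≤ U ⊔ V))).left ⟨x.1, hx⟩)⟩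
      · exact ⟨false, ⟨x.1, hx⟩, Subtype.ext congr(($(subLE_fac (U := U₀) (le_sup_right : V ≤ U ⊔ V))).left ⟨x.1, hx⟩)⟩)
    s (fun i j W x y e => by
      rcases i with _ | _ <;> rcases j with _ | _
      · haveI := mono_rs (le_sup_right : V ≤ U ⊔ V); rw [(cancel_mono _).1 e]
      · exact (key y x e.symm).symm
      · exact key x y e
      · haveI := mono_rs (le_sup_left : U ≤ U ⊔ V); rw [(cancel_mono _).1 e])
  exact ⟨t, ht true, ht false⟩

section Seq

variable (G : EtCoh.Ab Z)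

/-- An injective embedding. -/
noncomputable abbrev iSeq : ShortComplex (EtCoh.Ab Z) :=
  ShortComplex.mk (Injective.ι G) (cokernel.π _) (cokernel.condition _)

theorem iSeq_shortExact : (iSeq G).ShortExact := { exact := ShortComplex.exact_cokernel _ }

variable {G}

theorem van_shift {O : U₀.left.Opens} {q : ℕ} (h : Van G O (q + 2)) : Van (iSeq G).X₃ O (q + 1) := by
  haveI : Injective (iSeq G).X₂ := inferInstanceAs (Injective (Injective.under G))
  haveI : Subsingleton (Ext (EtStalk.zExt (obj O).hom) (iSeq G).X₁ (q + 2)) := h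
  refine subsingleton_of_forall_eq 0 fun z => ?_
  obtain ⟨y, rfl⟩ := Ext.covariant_sequence_exact₃ _ (iSeq_shortExact G) z rfl (Subsingleton.elim _ _)
  rw [Ext.eq_zero_of_injective y, Ext.zero_comp]

theorem lift_of_subsingleton (W : Z.Etale) [Etale W.hom] {S : ShortComplex (EtCoh.Ab Z)} (hS : S.ShortExact)
    (h : Subsingleton (Ext (EtStalk.zExt W.hom) S.X₁ 1)) (s : S.X₃.obj.obj (op W)) :
    ∃ t, S.g.hom.app (op W) t = s := by
  let e := EtColim.zExtSectIso W
  let ψ : EtStalk.zExt W.hom ⟶ S.X₃ := (e.app S.X₃).inv s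
  obtain ⟨y, hy⟩ := Ext.covariant_sequence_exact₃ _ hS (Ext.mk₀ ψ) (n₁ := 1) (zero_add 1)
    (@Subsingleton.elim _ h _ _)
  obtain ⟨φ, rfl⟩ := (Ext.mk₀_bijective _ _).2 y
  rw [Ext.mk₀_comp_mk₀] at hy
  refine ⟨(e.app S.X₂).hom φ, ?_⟩
  have h1 : (e.app S.X₃).inv (S.g.hom.app (op W) ((e.app S.X₂).hom φ)) =
      (e.app S.X₂).inv ((e.app S.X₂).hom φ) ≫ S.g :=
    ConcreteCategory.congr_hom (e.inv.naturality S.g) ((e.app S.X₂).hom φ)
  rw [(e.app S.X₂).hom_inv_id_apply φ, (Ext.mk₀_bijective _ _).1 hy] at h1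
  exact (ConcreteCategory.bijective_of_isIso (e.app S.X₃).inv).1 h1

theorem exists_lift {O : U₀.left.Opens} (h : Van G O 1) (s : (iSeq G).X₃.obj.obj (op (obj O))) :
    ∃ t, (iSeq G).g.hom.app (op (obj O)) t = s :=
  lift_of_subsingleton (obj O) (iSeq_shortExact G) h s

theorem split_shift {U V : U₀.left.Opens} (h : Van G (U ⊓ V) 1) : Split (iSeq G).X₃ U V := by
  intro c
  obtain ⟨j, rfl⟩ := exists_lift h c
  haveI : Injective (iSeq G).X₂ := inferInstanceAs (Injective (Injective.under G))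
  haveI := mono_rs (inf_le_left : U ⊓ V ≤ U)
  obtain ⟨k, rfl⟩ := EtStalk.surjective_map_of_injective (iSeq G).X₂ (rs (inf_le_left : U ⊓ V ≤ U)) j
  exact ⟨(iSeq G).g.hom.app _ k, 0, by rw [map_zero, sub_zero, ← g_res]⟩

theorem van_one {U V : U₀.left.Opens} (hU : Van G U 1) (hV : Van G V 1) (hs : Split G U V) : Van G (U ⊔ V) 1 := by
  have hS := iSeq_shortExact G
  haveI : Injective (iSeq G).X₂ := inferInstanceAs (Injective (Injective.under G))
  refine subsingleton_of_forall_eq 0 fun z => ?_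
  obtain ⟨y, rfl⟩ := Ext.covariant_sequence_exact₁ _ hS z (Ext.eq_zero_of_injective _) (n₀ := 0) rfl
  obtain ⟨φ, rfl⟩ := (Ext.mk₀_bijective _ _).2 y
  let e := EtColim.zExtSectIso (obj (U ⊔ V))
  let s : (iSeq G).X₃.obj.obj (op (obj (U ⊔ V))) := (e.app _).hom φ
  obtain ⟨a, ha⟩ := exists_lift hU ((iSeq G).X₃.obj.map (rs (le_sup_left : U ≤ U ⊔ V)).op s)
  obtain ⟨b, hb⟩ := exists_lift hV ((iSeq G).X₃.obj.map (rs (le_sup_right : V ≤ U ⊔ V)).op s)
  obtain ⟨c, hc⟩ := exists_f hS ((iSeq G).X₂.obj.map (rs (inf_le_left : U ⊓ V ≤ U)).op a -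
    (iSeq G).X₂.obj.map (rs (inf_le_right : U ⊓ V ≤ V)).op b) (by
      rw [map_sub, g_res, g_res, ha, hb, res_res, res_res, rs_comp, rs_comp, sub_self])
  obtain ⟨α, β, rfl⟩ := hs c
  rw [map_sub, f_res, f_res] at hc
  obtain ⟨t, ht1, ht2⟩ := glue_two (iSeq G).X₂ (a - (iSeq G).f.hom.app _ α) (b - (iSeq G).f.hom.app _ β) (by
    rw [map_sub, map_sub]
    exact sub_eq_sub_iff_sub_eq_sub.2 hc.symm)
  have hts : (iSeq G).g.hom.app (op (obj (U ⊔ V))) t = s := by
    let O : Bool → U₀.left.Opens := fun i => bif i then U else V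
    let f : ∀ i, obj (O i) ⟶ obj (U ⊔ V) := fun i => match i with
      | true => rs le_sup_left
      | false => rs le_sup_right
    refine sect_ext _ (fun i => obj (O i)) f (fun x => by
      rcases x.2 with hx | hx
      · exact ⟨true, ⟨x.1, hx⟩, Subtype.ext congr(($(subLE_fac (U := U₀) (le_sup_left : U ≤ U ⊔ V))).left ⟨x.1, hx⟩)⟩
      · exact ⟨false, ⟨x.1, hx⟩, Subtype.ext congr(($(subLE_fac (U := U₀) (le_sup_right : V ≤ U ⊔ V))).left ⟨x.1, hx⟩)⟩)
      fun i => ?_
    rw [← g_res]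
    rcases i with _ | _
    · show (iSeq G).g.hom.app _ ((iSeq G).X₂.obj.map (rs le_sup_right).op t) = _
      rw [ht2, map_sub, g_f, sub_zero]; exact hb
    · show (iSeq G).g.hom.app _ ((iSeq G).X₂.obj.map (rs le_sup_left).op t) = _
      rw [ht1, map_sub, g_f, sub_zero]; exact ha
  have h : φ = (e.app (iSeq G).X₂).inv t ≫ (iSeq G).g := by
    refine Eq.trans ?_ (ConcreteCategory.congr_hom (e.inv.naturality (iSeq G).g) t)
    refine ((e.app _).hom_inv_id_apply φ).symm.trans ?_
    exact congrArg (e.app _).inv hts.symm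
  rw [h, ← Ext.mk₀_comp_mk₀, Ext.comp_assoc_of_second_deg_zero, hS.comp_extClass, Ext.comp_zero]

theorem van_succ : ∀ (q : ℕ) (G : EtCoh.Ab Z) (U V : U₀.left.Opens),
    Van G U (q + 2) → Van G V (q + 2) → Van G (U ⊓ V) (q + 1) → Van G (U ⊔ V) (q + 2) := by
  intro q
  induction q with
  | zero =>
    intro G U V hU hV hI
    have h := van_one (van_shift hU) (van_shift hV) (split_shift hI)
    haveI : Injective (iSeq G).X₂ := inferInstanceAs (Injective (Injective.under G))
    haveI : Subsingleton (Ext (EtStalk.zExt (obj (U ⊔ V)).hom) (iSeq G).X₃ 1) := h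
    refine subsingleton_of_forall_eq 0 fun z => ?_
    obtain ⟨y, rfl⟩ := Ext.covariant_sequence_exact₁ _ (iSeq_shortExact G) z (Ext.eq_zero_of_injective _)
      (n₀ := 1) rfl
    rw [Subsingleton.elim y 0, Ext.zero_comp]
  | succ q ih =>
    intro G U V hU hV hI
    haveI : Injective (iSeq G).X₂ := inferInstanceAs (Injective (Injective.under G))
    haveI : Subsingleton (Ext (EtStalk.zExt (obj (U ⊔ V)).hom) (iSeq G).X₃ (q + 2)) :=
      ih _ U V (van_shift hU) (van_shift hV) (van_shift hI)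
    refine subsingleton_of_forall_eq 0 fun z => ?_
    obtain ⟨y, rfl⟩ := Ext.covariant_sequence_exact₁ _ (iSeq_shortExact G) z (Ext.eq_zero_of_injective _)
      (n₀ := q + 2) rfl
    rw [Subsingleton.elim y 0, Ext.zero_comp]

/-- A union of `n + 1` opens from a class closed under intersections, on each of which cohomology
vanishes in positive degrees, has no cohomology in degrees above `n`. -/
theorem van_iSup (P : U₀.left.Opens → Prop) (hinf : ∀ U V, P U → P V → P (U ⊓ V))
    (hP : ∀ U, P U → ∀ q, Van G U (q + 1)) :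
    ∀ (n : ℕ) (W : Fin (n + 1) → U₀.left.Opens), (∀ k, P (W k)) → ∀ q, n < q → Van G (⨆ k, W k) q := by
  intro n
  induction n with
  | zero =>
    intro W hW q hq
    obtain ⟨q, rfl⟩ := Nat.exists_eq_succ_of_ne_zero hq.ne'
    rw [show (⨆ k, W k) = W 0 from le_antisymm
      (iSup_le fun k => le_of_eq (congrArg W (Fin.fin_one_eq_zero k))) (le_iSup W 0)]
    exact hP _ (hW 0) q
  | succ n ih =>
    intro W hW q hq
    obtain ⟨q, rfl⟩ : ∃ p, q = p + 2 := ⟨q - 2, by omega⟩
    rw [show (⨆ k, W k) = W 0 ⊔ ⨆ k : Fin (n + 1), W k.succ from le_antisymm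
      (iSup_le fun k => by
        refine Fin.cases le_sup_left (fun j => ?_) k
        exact le_sup_of_le_right (le_iSup (fun j : Fin (n + 1) => W j.succ) j))
      (sup_le (le_iSup W 0) (iSup_le fun j => le_iSup W j.succ))]
    refine van_succ q G _ _ (hP _ (hW 0) (q + 1)) (ih _ (fun k => hW _) (q + 2) (by omega)) ?_
    rw [inf_iSup_eq]
    exact ih (fun k => W 0 ⊓ W k.succ) (fun k => hinf _ _ (hW 0) (hW _)) (q + 1) (by omega)

end Seq

end Groth.Agent.InjModAcyc24
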