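import Groth.Agent.Lib.InjModAcyc24.PairLim
import Groth.Agent.Lib.InjModAcyc24.MV
import Groth.Agent.Lib.AffAnalog24.Main
import Groth.Agent.Lib.FieldBr3.CurveTor
import Groth.Agent.Lib.EtStalk.IntegralUniv
import Groth.Agent.Lib.EtFlasque24.Push

/-!
# Restrictions of acyclic torsion sheaves to closed subschemes of affine étale schemes
-/

set_option autoImplicit false
set_option linter.style.haveILetI false
set_option backward.isDefEq.respectTransparency.types false

universe u

open CategoryTheory CategoryTheory.Limits AlgebraicGeometry Opposite CategoryTheory.Abelian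
open Groth.Agent.Hens

namespace Groth.Agent.InjModAcyc24

variable {A B C : Scheme.{u}}

theorem subsingleton_H_of_iso {F G : EtCoh.Ab A} (e : F ≅ G) (q : ℕ) (h : Subsingleton (EtCoh.H A F q)) :
    Subsingleton (EtCoh.H A G q) :=
  subsingleton_of_forall_eq 0 fun x => FieldH25.eq_zero_of_comp_iso x e.symm (@Subsingleton.elim _ h _ _)

theorem subsingleton_H_pull_pull (f : A ⟶ B) (g : B ⟶ C) (w : A ⟶ C) (e : f ≫ g = w) (F : EtCoh.Ab C) (q : ℕ) :
    Subsingleton (EtCoh.H A ((EtCoh.pull f).obj ((EtCoh.pull g).obj F)) q) ↔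
      Subsingleton (EtCoh.H A ((EtCoh.pull w).obj F) q) := by
  subst e
  exact ⟨subsingleton_H_of_iso ((EtCore.pullComp f g).app F).symm q,
    subsingleton_H_of_iso ((EtCore.pullComp f g).app F) q⟩

theorem subsingleton_H_pull_of_isIso (f : A ⟶ B) [IsIso f] (F : EtCoh.Ab B) (q : ℕ)
    (h : Subsingleton (EtCoh.H B F q)) : Subsingleton (EtCoh.H A ((EtCoh.pull f).obj F) q) := by
  haveI := EtStalk.isIso_unit_integral f F (fun x _ => f.surjective x)
  haveI : Subsingleton (EtCoh.H B ((EtCoh.push f).obj ((EtCoh.pull f).obj F)) q) :=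
    subsingleton_H_of_iso (asIso ((EtCoh.pullPushAdj f).unit.app F)) q h
  exact (FieldH25.bijective_HofPush_integral f ((EtCoh.pull f).obj F) q).2.subsingleton

variable {R : Type u} [CommRing R] (I : Ideal R)

/-- The closed subscheme has the cohomology of the henselization. -/
theorem subsingleton_H_res (G : EtCoh.Ab (Spec (CommRingCat.of (PHs I)))) (hG : EtCoh.IsTorsion G) (q : ℕ)
    (h : Subsingleton (EtCoh.H (Spec (CommRingCat.of (PHs I))) G q)) :
    Subsingleton (EtCoh.H (Spec (CommRingCat.of (R ⧸ I)))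
      ((EtCoh.pull (Spec.map (CommRingCat.ofHom (PHs.res (I := I)).toRingHom))).obj G) q) := by
  have hs : Function.Surjective (PHs.res (I := I)).toRingHom := fun x => by
    obtain ⟨r, rfl⟩ := Ideal.Quotient.mk_surjective x
    exact ⟨algebraMap R _ r, (PHs.res (I := I)).commutes r⟩
  let i := Spec.map (CommRingCat.ofHom (PHs.res (I := I)).toRingHom)
  haveI : IsClosedImmersion i := IsClosedImmersion.spec_of_surjective _ hs
  have hr : Set.range i = PrimeSpectrum.zeroLocus ((I.map (algebraMap R (PHs I)) : Ideal (PHs I)) : Set (PHs I)) := by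
    rw [← PHs.ker_res (I := I)]
    exact range_comap_of_surjective _ (PHs.res (I := I)).toRingHom hs
  have h1 : Gabber24.SecEq (Spec (CommRingCat.of (PHs I))).carrier (Set.range i) := by
    rw [hr]
    exact Gabber24.secEq_of_proper (I := I.map (algebraMap R (PHs I))) (PHs.henselianRing (I := I))
      (𝟙 (Spec (CommRingCat.of (PHs I))))
  have h2 : ∀ (X' : Scheme.{u}) (π : X' ⟶ Spec (CommRingCat.of (PHs I))), IsFinite π →
      Gabber24.SecEq X'.carrier (π ⁻¹' Set.range i) := fun X' π hπ => by
    haveI := hπ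
    rw [hr]
    exact Gabber24.secEq_of_proper (I := I.map (algebraMap R (PHs I))) (PHs.henselianRing (I := I)) π
  have hb := AffAnalog24.bijective_unit_H i (fun G' => Gabber24.bijective_unit i h1 h2 G') q G hG
  haveI : Subsingleton (EtCoh.H (Spec (CommRingCat.of (PHs I))) ((EtCoh.push i).obj ((EtCoh.pull i).obj G)) q) :=
    haveI : Subsingleton (Sheaf.H ((𝟭 (EtCoh.Ab (Spec (CommRingCat.of (PHs I))))).obj G) q) := h
    hb.2.subsingleton
  exact (FieldH25.bijective_HofPush_integral i ((EtCoh.pull i).obj G) q).2.subsingleton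

variable {X : Scheme.{u}} {F : EtCoh.Ab X} (hF : EtCoh.IsTorsion F) (hA : EtFlasque24.Acyc F)

include hF hA in
/-- The spectrum case. -/
theorem subsingleton_H_quotient (b : Spec (CommRingCat.of R) ⟶ X) [Etale b] (q : ℕ) (hq : 0 < q) :
    Subsingleton (EtCoh.H (Spec (CommRingCat.of (R ⧸ I)))
      ((EtCoh.pull (Spec.map (CommRingCat.ofHom (Ideal.Quotient.mk I)) ≫ b)).obj F) q) := by
  have hP := subsingleton_H_PHs (I := I) b F q fun S _ _ hS => by
    haveI := hS
    haveI : Etale (Spec.map (CommRingCat.ofHom (algebraMap R S))) :=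
      HasRingHomProperty.Spec_iff.2 (RingHom.etale_algebraMap.2 inferInstance)
    exact hA (Scheme.Etale.mk (Spec.map (CommRingCat.ofHom (algebraMap R S)) ≫ b)) q hq
  refine (subsingleton_H_pull_pull _ _ _ ?_ F q).1
    (subsingleton_H_res I _ (FieldBr3.isTorsion_pull' _ hF) q hP)
  rw [← Spec.map_comp_assoc]
  congr 2
  exact CommRingCat.hom_ext (PHs.res (I := I)).comp_algebraMap

include hF hA in
/-- Closed subschemes of affine étale schemes. -/
theorem subsingleton_H_closed {W Z : Scheme.{u}} [IsAffine W] (b : W ⟶ X) [Etale b] (i : Z ⟶ W)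
    [IsClosedImmersion i] (w : Z ⟶ X) (hw : i ≫ b = w) (q : ℕ) (hq : 0 < q) :
    Subsingleton (EtCoh.H Z ((EtCoh.pull w).obj F) q) := by
  subst hw
  obtain ⟨J, e, he⟩ := IsClosedImmersion.Spec_iff.1 (inferInstance : IsClosedImmersion (i ≫ W.isoSpec.hom))
  have h := subsingleton_H_quotient (R := Γ(W, ⊤)) J hF hA (W.isoSpec.inv ≫ b) q hq
  refine (subsingleton_H_pull_pull e.hom _ _ ?_ F q).1 (subsingleton_H_pull_of_isIso e.hom _ q h)
  rw [← Category.assoc, ← Category.assoc, ← he, Category.assoc i, Iso.hom_inv_id, Category.comp_id]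

end Groth.Agent.InjModAcyc24
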