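import Groth.Agent.Lib.SiteCoh.ModuleExt
import Groth.Agent.Lib.EtColim.Torsion
import Groth.Agent.Lib.EtFlasque24.Push
import Mathlib.Algebra.Category.ModuleCat.Sheaf.PushforwardContinuous
import Mathlib.CategoryTheory.Sites.Equivalence

/-!
# Injective modules on the small étale site are acyclic over every étale scheme
-/

set_option autoImplicit false
set_option linter.style.haveILetI false
set_option backward.isDefEq.respectTransparency.types false

universe u

open CategoryTheory CategoryTheory.Limits AlgebraicGeometry Opposite CategoryTheory.Abelian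

namespace Groth.Agent.InjModAcyc24

variable (X : Scheme.{u})

/-- A small model of the étale site. -/
abbrev SC : Type (u + 1) := ULiftHom.{u + 1} X.Etale

/-- The comparison. -/
abbrev eqv : SC X ≌ X.Etale := (ULiftHom.equiv (C := X.Etale)).symm

/-- The topology. -/
abbrev sTop : GrothendieckTopology (SC X) := (eqv X).functor.inducedTopology X.smallEtaleTopology

instance : (eqv X).functor.IsDenseSubsite (sTop X) X.smallEtaleTopology := by infer_instance

instance : (eqv X).inverse.IsDenseSubsite X.smallEtaleTopology (sTop X) :=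
  inferInstanceAs ((eqv X).symm.functor.IsDenseSubsite X.smallEtaleTopology
    ((eqv X).symm.inverse.inducedTopology X.smallEtaleTopology))

instance : Functor.IsContinuous (eqv X).inverse X.smallEtaleTopology (sTop X) := by infer_instance

/-- Restriction. -/
noncomputable abbrev res : EtCoh.Ab X ⥤ Sheaf (sTop X) AddCommGrpCat.{u + 1} :=
  (eqv X).functor.sheafPushforwardContinuous AddCommGrpCat.{u + 1} (sTop X) X.smallEtaleTopology

instance : (res X).IsEquivalence := by infer_instance

variable {X} (A : Sheaf X.smallEtaleTopology RingCat.{u + 1})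

/-- The ring sheaf on the small model. -/
noncomputable abbrev A' : Sheaf (sTop X) RingCat.{u + 1} :=
  ((eqv X).functor.sheafPushforwardContinuous RingCat.{u + 1} (sTop X) X.smallEtaleTopology).obj A

/-- The comparison of rings. -/
noncomputable def psi : A ⟶
    ((eqv X).inverse.sheafPushforwardContinuous RingCat.{u + 1} X.smallEtaleTopology (sTop X)).obj (A' A) :=
  ⟨{ app := fun U => 𝟙 _, naturality := fun _ _ _ => (Category.comp_id _).trans (Category.id_comp _).symm }⟩

theorem isTotallyAcyclic_res (I : SheafOfModules.{u + 1} A) [Injective I] :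
    CohCx.IsTotallyAcyclic ((res X).obj ((SheafOfModules.toSheaf A).obj I)) := by
  let e := SheafOfModules.pushforwardPushforwardEquivalence.{u + 1} (J := sTop X) (K := X.smallEtaleTopology)
    (eqv X) (S := A' A) (R := A) (𝟙 _) (psi A)
    (by ext U x; simp [psi]; exact ConcreteCategory.congr_hom (A.obj.map_id U) x)
    (by ext U x; simp [psi]; exact ConcreteCategory.congr_hom (A.obj.map_id _) x)
  haveI : e.functor.IsEquivalence := inferInstance
  haveI : Injective (e.functor.obj I) := (e.map_injective_iff I).2 inferInstance
  exact SiteCoh.isTotallyAcyclic_injective (A' A) (e.functor.obj I)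

/-- Acyclicity on the small model. -/
def P (F : EtCoh.Ab X) : Prop :=
  ∀ (U : SC X) (p : ℕ), Subsingleton (CohSite.HU ((res X).obj F) (p + 1) U)

theorem P_module (I : SheafOfModules.{u + 1} A) [Injective I] : P ((SheafOfModules.toSheaf A).obj I) :=
  fun U p => SiteCoh.subsingleton_HU_of_totallyAcyclic (isTotallyAcyclic_res A I) U p

variable {S : ShortComplex (EtCoh.Ab X)}

theorem shortExact_res (hS : S.ShortExact) : (S.map (res X)).ShortExact := hS.map_of_exact (res X)

theorem P_quotient (hS : S.ShortExact) (h₁ : P S.X₁) [Injective S.X₂] : P S.X₃ := fun U p =>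
  haveI : Injective (S.map (res X)).X₂ := ((res X).asEquivalence.map_injective_iff S.X₂).2 inferInstance
  SiteCoh.subsingleton_HU₃ U (shortExact_res hS) (p + 1) (SiteCoh.subsingleton_HU_of_injective U _ p) (h₁ U (p + 1))

theorem surjective_sections (hS : S.ShortExact) (h₁ : P S.X₁) (W : X.Etale) :
    Function.Surjective (S.g.hom.app (op W)) :=
  SiteCoh.surjective_sections ((ULiftHom.objUp W : SC X)) (shortExact_res hS) (h₁ _ 0)

theorem subsingleton_ext : ∀ (q : ℕ) (F : EtCoh.Ab X), P F → ∀ (W : X.Etale) [Etale W.hom],
    Subsingleton (Ext (EtStalk.zExt W.hom) F (q + 1)) := by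
  intro q
  induction q with
  | zero =>
    intro F hF W _
    refine subsingleton_of_forall_eq 0 fun z => ?_
    let S : ShortComplex (EtCoh.Ab X) := ShortComplex.mk (Injective.ι F) (cokernel.π _) (cokernel.condition _)
    have hS : S.ShortExact := { exact := ShortComplex.exact_cokernel _ }
    obtain ⟨y, rfl⟩ := Ext.covariant_sequence_exact₁ _ hS z (Ext.eq_zero_of_injective _) (n₀ := 0) rfl
    obtain ⟨φ, rfl⟩ := (Ext.mk₀_bijective _ _).2 y
    let e := EtColim.zExtSectIso W
    obtain ⟨t, ht⟩ := surjective_sections hS hF W ((e.app S.X₃).hom φ)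
    have h : φ = (e.app S.X₂).inv t ≫ S.g := by
      refine Eq.trans ?_ (ConcreteCategory.congr_hom (e.inv.naturality S.g) t)
      refine ((e.app S.X₃).hom_inv_id_apply φ).symm.trans ?_
      exact congrArg (e.app S.X₃).inv ht.symm
    rw [h, ← Ext.mk₀_comp_mk₀, Ext.comp_assoc_of_second_deg_zero, hS.comp_extClass, Ext.comp_zero]
  | succ q ih =>
    intro F hF W _
    refine subsingleton_of_forall_eq 0 fun z => ?_
    let S : ShortComplex (EtCoh.Ab X) := ShortComplex.mk (Injective.ι F) (cokernel.π _) (cokernel.condition _)
    have hS : S.ShortExact := { exact := ShortComplex.exact_cokernel _ }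
    haveI : Injective S.X₂ := inferInstanceAs (Injective (Injective.under F))
    obtain ⟨y, rfl⟩ := Ext.covariant_sequence_exact₁ _ hS z (Ext.eq_zero_of_injective _) (n₀ := q + 1) rfl
    rw [(ih S.X₃ (P_quotient hS hF) W).elim y 0, Ext.zero_comp]

/-- An injective module has no cohomology over étale schemes. -/
theorem acyc (I : SheafOfModules.{u + 1} A) [Injective I] :
    EtFlasque24.Acyc ((SheafOfModules.toSheaf A).obj I) := by
  intro W q hq
  obtain ⟨q, rfl⟩ := Nat.exists_eq_succ_of_ne_zero hq.ne'
  haveI : Etale W.hom := W.prop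
  haveI := subsingleton_ext q _ (P_module A I) W
  exact (EtStalk.extCohEquiv W.hom _ (q + 1)).symm.toEquiv.subsingleton

end Groth.Agent.InjModAcyc24
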