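import Groth.Agent.Lib.Hens.PairColim
import Groth.Agent.Lib.EtLim24.Base
import Mathlib.AlgebraicGeometry.AffineTransitionLimit
import Mathlib.CategoryTheory.Presentable.Directed
import Mathlib.CategoryTheory.Limits.Types.Filtered
import Mathlib.Algebra.Category.Ring.FilteredColimits
import Groth.Agent.S0101

/-!
# Vanishing on the henselization of a pair
-/

set_option autoImplicit false
set_option linter.style.haveILetI false
set_option backward.isDefEq.respectTransparency.types false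

universe u

open CategoryTheory CategoryTheory.Limits AlgebraicGeometry Opposite
open scoped TensorProduct
open Groth.Agent.Hens

namespace Groth.Agent.InjModAcyc24

variable {R : Type u} [CommRing R] {I : Ideal R}

/-- Étale neighbourhoods of `R/I` with morphisms of coordinate rings. -/
structure PN (I : Ideal R) : Type u where
  /-- The neighbourhood. -/
  nb : PNbhd I

noncomputable instance : SmallCategory (PN I) where
  Hom i j := {ψ : i.nb.S →ₐ[R] j.nb.S // j.nb.σ.comp ψ = i.nb.σ}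
  id i := ⟨AlgHom.id R _, AlgHom.comp_id _⟩
  comp f g := ⟨g.1.comp f.1, by rw [← AlgHom.comp_assoc, g.2, f.2]⟩
  id_comp f := Subtype.ext (AlgHom.comp_id _)
  comp_id f := Subtype.ext (AlgHom.id_comp _)
  assoc f g h := Subtype.ext (AlgHom.comp_assoc _ _ _)

namespace PN

/-- The map to the henselization. -/
noncomputable def toPHs (i : PN I) : i.nb.S →ₐ[R] PHs I :=
  (PHs.of i.nb).comp (IsScalarTower.toAlgHom R i.nb.S i.nb.G)

theorem toPHs_apply (i : PN I) (x : i.nb.S) : i.toPHs x = PHs.of i.nb (algebraMap _ i.nb.G x) := rfl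

theorem toPHs_hom {i j : PN I} (f : i ⟶ j) (x : i.nb.S) : j.toPHs (f.1 x) = i.toPHs x := by
  obtain ⟨h, h'⟩ := i.nb.le_of_algHom f.1 f.2
  rw [toPHs_apply, toPHs_apply, ← h', PHs.of_map]

theorem exists_invert (i : PN I) (t : i.nb.S) (ht : IsUnit (i.nb.σ t)) :
    ∃ (k : PN I) (f : i ⟶ k), IsUnit (f.1 t) := by
  let σA : Localization.Away t →ₐ[R] R ⧸ I := IsLocalization.Away.liftAlgHom t (f := i.nb.σ) ht
  have : Algebra.Etale R (Localization.Away t) := by
    have := Algebra.Etale.of_isLocalizationAway (R := i.nb.S) (A := Localization.Away t) t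
    exact Algebra.Etale.comp R i.nb.S _
  obtain ⟨k, φ, hφ⟩ := PNbhd.exists_of_point (Localization.Away t) σA
  refine ⟨⟨k⟩, ⟨φ.comp (IsScalarTower.toAlgHom R i.nb.S (Localization.Away t)), ?_⟩,
    (IsLocalization.Away.algebraMap_isUnit (S := Localization.Away t) t).map φ⟩
  ext x
  show k.σ (φ (algebraMap _ _ x)) = i.nb.σ x
  rw [hφ]
  exact IsLocalization.Away.lift_eq (S := Localization.Away t) t (g := i.nb.σ.toRingHom) ht x

theorem exists_hom₂ (i j : PN I) : ∃ k : PN I, Nonempty (i ⟶ k) ∧ Nonempty (j ⟶ k) := by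
  have : Algebra.Etale R (i.nb.S ⊗[R] j.nb.S) := Algebra.Etale.comp R i.nb.S _
  obtain ⟨k, φ, hφ⟩ := PNbhd.exists_of_point (i.nb.S ⊗[R] j.nb.S)
    (Algebra.TensorProduct.lift i.nb.σ j.nb.σ fun _ _ => .all _ _)
  refine ⟨⟨k⟩, ⟨⟨φ.comp Algebra.TensorProduct.includeLeft, ?_⟩⟩,
    ⟨⟨φ.comp Algebra.TensorProduct.includeRight, ?_⟩⟩⟩
  · ext x
    show k.σ (φ (x ⊗ₜ 1)) = _
    rw [hφ]
    simp
  · ext x
    show k.σ (φ (1 ⊗ₜ x)) = _
    rw [hφ]
    simp

theorem hom_congr {i j : PN I} (f g : i ⟶ j) (x : i.nb.S) :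
    algebraMap _ j.nb.G (f.1 x) = algebraMap _ j.nb.G (g.1 x) := by
  obtain ⟨h, hf⟩ := i.nb.le_of_algHom f.1 f.2
  obtain ⟨h', hg⟩ := i.nb.le_of_algHom g.1 g.2
  rw [← hf, ← hg]

theorem exists_equalize (i : PN I) {ι : Type} [Finite ι] (a b : ι → i.nb.S)
    (h : ∀ c, algebraMap _ i.nb.G (a c) = algebraMap _ i.nb.G (b c)) :
    ∃ (k : PN I) (f : i ⟶ k), ∀ c, f.1 (a c) = f.1 (b c) := by
  cases nonempty_fintype ι
  have h' := fun c => (IsLocalization.eq_iff_exists i.nb.M i.nb.G).mp (h c)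
  choose t ht using h'
  obtain ⟨k, f, hf⟩ := i.exists_invert ((∏ c, t c : i.nb.M) : i.nb.S) (∏ c, t c : i.nb.M).2
  refine ⟨k, f, fun c => ?_⟩
  have hd : ((∏ c, t c : i.nb.M) : i.nb.S) * a c = ((∏ c, t c : i.nb.M) : i.nb.S) * b c := by
    obtain ⟨s, hs⟩ := Finset.dvd_prod_of_mem t (Finset.mem_univ c)
    rw [hs, Submonoid.coe_mul, mul_comm (t c : i.nb.S) _, mul_assoc, mul_assoc, ht c]
  exact hf.mul_left_cancel (by rw [← map_mul, ← map_mul, hd])

instance : Nonempty (PN I) := ⟨⟨Classical.arbitrary _⟩⟩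

instance : IsFiltered (PN I) where
  cocone_objs i j := by
    obtain ⟨k, ⟨f⟩, ⟨g⟩⟩ := exists_hom₂ i j
    exact ⟨k, f, g, trivial⟩
  cocone_maps {i j} f g := by
    have h := hom_congr f g
    obtain ⟨k, e, he⟩ := j.exists_equalize (ι := Fin i.nb.n)
      (fun c => f.1 (Ideal.Quotient.mk _ (MvPolynomial.X c)))
      (fun c => g.1 (Ideal.Quotient.mk _ (MvPolynomial.X c))) fun c => h _
    exact ⟨k, e, Subtype.ext (Ideal.Quotient.algHom_ext R (MvPolynomial.algHom_ext he))⟩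

theorem exists_toPHs (x : PHs I) : ∃ (k : PN I) (y : k.nb.S), k.toPHs y = x := by
  obtain ⟨i, z, rfl⟩ := PHs.exists_of x
  obtain ⟨s, t, rfl⟩ := IsLocalization.exists_mk'_eq i.M z
  obtain ⟨k, f, hf⟩ := exists_invert ⟨i⟩ (t : i.S) t.2
  refine ⟨k, f.1 s * (hf.unit⁻¹ : _), (hf.map k.toPHs).mul_left_cancel ?_⟩
  rw [← map_mul, mul_comm (f.1 (t : i.S)), mul_assoc, IsUnit.val_inv_mul, mul_one, toPHs_hom f,
    toPHs_hom f, toPHs_apply, toPHs_apply]
  show PHs.of i (algebraMap i.S i.G s) =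
    PHs.of i (algebraMap i.S i.G t) * PHs.of i (IsLocalization.mk' i.G s t)
  rw [← map_mul, IsLocalization.mk'_spec']

theorem exists_hom_eq {m : PN I} {a b : m.nb.S} (h : m.toPHs a = m.toPHs b) :
    ∃ (k : PN I) (f : m ⟶ k), f.1 a = f.1 b := by
  rw [toPHs_apply, toPHs_apply] at h
  obtain ⟨l, hml, hml', hl⟩ := PHs.of_eq_of_iff.mp h
  obtain ⟨n, ⟨f⟩, ⟨g⟩⟩ := exists_hom₂ m ⟨l⟩
  obtain ⟨hf, hf'⟩ := m.nb.le_of_algHom f.1 f.2
  obtain ⟨hg, -⟩ := l.le_of_algHom g.1 g.2
  have key : ∀ z : m.nb.G, PNbhd.map hf z = PNbhd.map hg (PNbhd.map hml z) := fun z =>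
    congr($(PNbhd.map_unique (φ := PNbhd.map hf) (ψ := (PNbhd.map hg).comp (PNbhd.map hml))
      (AlgHom.ext fun w => PNbhd.res_map hf w)
      (AlgHom.ext fun w => by
        rw [AlgHom.comp_apply, AlgHom.comp_apply, PNbhd.res_map, PNbhd.res_map])) z)
  obtain ⟨k, e, he⟩ := n.exists_equalize (ι := Unit) (fun _ => f.1 a) (fun _ => f.1 b) fun _ => by
    rw [← hf', ← hf', key, key, hl]
  exact ⟨k, f ≫ e, he ()⟩

end PN

/-- The coordinate rings. -/
noncomputable def pnDiag (I : Ideal R) : PN I ⥤ CommRingCat.{u} where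
  obj i := CommRingCat.of i.nb.S
  map f := CommRingCat.ofHom f.1.toRingHom

/-- Vanishing passes from affine étale schemes to the henselization of a pair. -/
theorem subsingleton_H_PHs {X : Scheme.{u}} (b : Spec (CommRingCat.of R) ⟶ X) (F : EtCoh.Ab X) (q : ℕ)
    (h : ∀ (S : Type u) [CommRing S] [Algebra R S], Algebra.Etale R S → Subsingleton (EtCoh.H (Spec (CommRingCat.of S))
      ((EtCoh.pull (Spec.map (CommRingCat.ofHom (algebraMap R S)) ≫ b)).obj F) q)) :
    Subsingleton (EtCoh.H (Spec (CommRingCat.of (PHs I)))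
      ((EtCoh.pull (Spec.map (CommRingCat.ofHom (algebraMap R (PHs I))) ≫ b)).obj F) q) := by
  obtain ⟨ι, _, _, _, G, hG⟩ := IsFiltered.exists_directed (PN I)
  let cc : Cocone (pnDiag I) :=
    { pt := CommRingCat.of (PHs I)
      ι :=
        { app := fun i => CommRingCat.ofHom i.toPHs.toRingHom
          naturality := fun a b f => CommRingCat.hom_ext (RingHom.ext fun x => PN.toPHs_hom f x) } }
  haveI : PreservesColimit (pnDiag I) (forget CommRingCat.{u}) := inferInstance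
  haveI : ReflectsColimit (pnDiag I) (forget CommRingCat.{u}) := reflectsColimit_of_reflectsIsomorphisms _ _
  have hcc : IsColimit cc := isColimitOfReflects (forget CommRingCat)
    (Types.FilteredColimit.isColimitOf' _ _ (fun x => by
      obtain ⟨i, y, hy⟩ := PN.exists_toPHs (I := I) x
      exact ⟨i, y, hy.symm⟩) fun i x y hxy => PN.exists_hom_eq hxy)
  let c₁ := Scheme.Spec.mapCone cc.op
  have hc₁ : IsLimit c₁ := isLimitOfPreserves Scheme.Spec hcc.op
  have hc : IsLimit (c₁.whisker G.op) := (Functor.Initial.isLimitWhiskerEquiv G.op c₁).symm hc₁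
  let c := c₁.whisker G.op
  let Xs : ιᵒᵖ ⥤ Scheme.{u} := G.op ⋙ (pnDiag I).op ⋙ Scheme.Spec
  haveI : ∀ i : ι, IsAffine (Xs.obj (op i)) := fun i =>
    inferInstanceAs (IsAffine (Spec (CommRingCat.of (G.obj i).nb.S)))
  haveI : ∀ a, PreservesFiniteLimits (EtCoh.pull (c.π.app a)) := fun a => Groth.Agent.S0101.result _
  haveI : ∀ ⦃a b : ιᵒᵖ⦄ (e : a ⟶ b), PreservesFiniteLimits (EtCoh.pull (Xs.map e)) := fun a b e => Groth.Agent.S0101.result _
  have haff : ∀ ⦃a b : ιᵒᵖ⦄ (e : a ⟶ b), IsAffineHom (Xs.map e) := fun a b e => by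
    obtain ⟨a⟩ := a; obtain ⟨b⟩ := b
    infer_instance
  let bi : ∀ i : ι, Xs.obj (op i) ⟶ X := fun i =>
    Spec.map (CommRingCat.ofHom (algebraMap R (G.obj i).nb.S)) ≫ b
  have key : ∀ (A B : Type u) [CommRing A] [CommRing B] [Algebra R A] [Algebra R B] (φ : A →ₐ[R] B),
      Spec.map (CommRingCat.ofHom φ.toRingHom) ≫ Spec.map (CommRingCat.ofHom (algebraMap R A)) ≫ b =
        Spec.map (CommRingCat.ofHom (algebraMap R B)) ≫ b := by
    intro A B _ _ _ _ φ
    rw [← Spec.map_comp_assoc]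
    congr 2
    exact CommRingCat.hom_ext φ.comp_algebraMap
  obtain ⟨h₁, -⟩ := EtLim24.limit_base (Xs := Xs) (c := c) bi
    (fun i j hij => key _ _ (G.map (homOfLE hij)).1)
    (Spec.map (CommRingCat.ofHom (algebraMap R (PHs I))) ≫ b)
    (fun i => key _ _ (G.obj i).toPHs) F haff hc q
  refine subsingleton_of_forall_eq 0 fun ξ => ?_
  obtain ⟨i, x, rfl⟩ := h₁ ξ
  haveI := h (G.obj i).nb.S inferInstance
  rw [@Subsingleton.elim _ (h (G.obj i).nb.S inferInstance) x 0]
  exact map_zero _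

end Groth.Agent.InjModAcyc24
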